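import Cfsg.Agent.H634.OneP.Def
import Cfsg.Agent.Characters.GaloisBasic
import Cfsg.Agent.S0907
import Cfsg.Agent.Blocks.PrincipalSection

/-!
# S4880, B9: block orthogonality and Frobenius modulo `V` (helper352, task 3639)
-/

set_option autoImplicit false

open Cfsg IsLocalRing ComplexConjugate

namespace Cfsg.Agent.H352.OneP

open Cfsg.Agent.H634.OneP Cfsg.Agent.H657

universe u

variable {G : Type u} [Group G] [Finite G] {p : ℕ} [hp : Fact p.Prime] {M : Ideal AlgInt}
  {V : ValuationSubring ℂ}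

theorem exists_lift (hV : Above M V) (χ : IrrCharacter G) (g : G) :
    ∃ (d : ℕ) (μ : Fin d → V), ∀ k : ℕ, (χ : G → ℂ) (g ^ k) = ((∑ i, μ i ^ k : V) : ℂ) := by
  obtain ⟨d, μ, -, h1, h2⟩ := Cfsg.Agent.Characters.GaloisBasic.isCharacter_exists_fin_pow
    (Characters.Core.isIrr_isCharacter χ.2) g (n := orderOf g) (orderOf_pos g).ne' (pow_orderOf_eq_one g)
  have h3 : ∀ i, μ i ∈ V := by
    intro i
    have h4 : IsIntegral ℤ (μ i) := by
      refine IsIntegral.of_pow (orderOf_pos g) ?_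
      rw [h1]
      exact isIntegral_one
    exact hV.mem ⟨μ i, h4⟩
  refine ⟨d, fun i => ⟨μ i, h3 i⟩, fun k => ?_⟩
  rw [h2 k]
  push_cast
  rfl

omit [Group G] [Finite G] in
theorem rd_eq {θ : G → ℂ} {g : G} {v : V} (h : θ g = v) : rd V θ g = residue V v := by
  rw [rd_of (h ▸ v.2 : θ g ∈ V)]
  congr 1
  exact Subtype.ext h

theorem frob_mod (hM : IsPModular p M) (hV : Above M V) (χ : IrrCharacter G) (g : G) :
    rd V (χ : G → ℂ) g ^ p = rd V (χ : G → ℂ) (g ^ p) := by
  have : CharP (ResidueField V) p := hV.charP hM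
  obtain ⟨d, μ, h⟩ := exists_lift hV χ g
  have h1 := h 1
  rw [pow_one] at h1
  rw [rd_eq h1, rd_eq (h p), ← map_pow]
  simp only [pow_one, map_sum, map_pow]
  rw [sum_pow_char]

theorem frob_iter (hM : IsPModular p M) (hV : Above M V) (χ : IrrCharacter G) (g : G) (k : ℕ) :
    rd V (χ : G → ℂ) g ^ p ^ k = rd V (χ : G → ℂ) (g ^ p ^ k) := by
  induction k with
  | zero => rw [pow_zero, pow_one, pow_one]
  | succ k ih => rw [pow_succ, pow_mul, ih, frob_mod hM hV, ← pow_mul]

theorem rd_section (hM : IsPModular p M) (hV : Above M V) (χ : IrrCharacter G) {x y : G} (hxy : Commute x y)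
    (hx : ∃ k : ℕ, orderOf x = p ^ k) : rd V (χ : G → ℂ) (x * y) = rd V (χ : G → ℂ) y := by
  have : CharP (ResidueField V) p := hV.charP hM
  obtain ⟨k, hk⟩ := hx
  have h1 : rd V (χ : G → ℂ) (x * y) ^ p ^ k = rd V (χ : G → ℂ) y ^ p ^ k := by
    rw [frob_iter hM hV, frob_iter hM hV, hxy.mul_pow, ← hk, pow_orderOf_eq_one, one_mul]
  have : ExpChar (ResidueField V) p := ExpChar.prime hp.out
  exact iterateFrobenius_inj (ResidueField V) p k h1

/-- B9. Block orthogonality and Frobenius modulo `V`. -/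
theorem ortho_mod (hM : IsPModular p M) (hV : Above M V) {x : G} (hx : ∃ k : ℕ, orderOf x = p ^ k)
    (hx1 : x ≠ 1) (s s' : Subgroup.centralizer ({x} : Set G)) (hs : ¬ p ∣ orderOf s)
    (hs' : ¬ p ∣ orderOf s') :
    ∑ᶠ χ ∈ principalBlock M G, rd V (χ : G → ℂ) s * rd V (χ : G → ℂ) s' = 0 := by
  classical
  have : Finite (IrrCharacter G) := Characters.Core.finite_irr
  have := Fintype.ofFinite (IrrCharacter G)
  have hc : Commute x (s : G) := (Subgroup.mem_centralizer_singleton_iff.1 s.2).symm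
  have h1 : p ∣ orderOf (x * s)⁻¹ := by
    rw [orderOf_inv]
    obtain ⟨k, hk⟩ := hx
    have hk0 : k ≠ 0 := by
      rintro rfl
      exact hx1 (orderOf_eq_one_iff.1 (by rw [hk, pow_zero]))
    have hcop : Nat.Coprime (orderOf x) (orderOf (s : G)) := by
      rw [hk, Subgroup.orderOf_coe]
      exact Nat.Coprime.pow_left _ ((Nat.Prime.coprime_iff_not_dvd hp.out).2 hs)
    rw [hc.orderOf_mul_eq_mul_orderOf_of_coprime hcop, hk]
    exact (dvd_pow_self p hk0).mul_right _
  have h2 := Cfsg.Agent.S0907.result p M hM (principalBlock M G) Blocks.PrincipalSection.isPBlock_principalBlock (s' : G)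
    (x * s)⁻¹ (by rwa [Subgroup.orderOf_coe]) h1
  have ha : ∀ (χ : IrrCharacter G) (g : G), ∃ v : V, (χ : G → ℂ) g = v := by
    intro χ g
    obtain ⟨d, μ, h⟩ := exists_lift hV χ g
    exact ⟨_, by rw [← h 1, pow_one]⟩
  choose a ha using ha
  have h3 : ∀ χ : IrrCharacter G, (χ : G → ℂ) s' * conj ((χ : G → ℂ) (x * s)⁻¹) =
      ((a χ s' * a χ (x * s) : V) : ℂ) := by
    intro χ
    rw [Characters.Core.isCharacter_apply_inv (Characters.Core.isIrr_isCharacter χ.2), Complex.conj_conj, ha, ha]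
    rfl
  simp only [h3] at h2
  rw [finsum_mem_eq_toFinset_sum] at h2 ⊢
  have h4 : (∑ χ ∈ (principalBlock M G).toFinset, a χ s' * a χ (x * s) : V) = 0 := by
    apply Subtype.ext
    push_cast
    push_cast at h2
    exact h2
  have h5 := congrArg (residue V) h4
  rw [map_sum, map_zero] at h5
  rw [← h5]
  refine Finset.sum_congr rfl fun χ _ => ?_
  rw [map_mul, ← rd_eq (ha χ s'), ← rd_eq (ha χ (x * s)), rd_section hM hV χ hc hx, mul_comm]

end Cfsg.Agent.H352.OneP
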